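import Groth.Agent.L21.Mod.Locality
import Mathlib.Topology.Sheaves.SheafCondition.Sites
import Mathlib.Topology.Sheaves.SheafCondition.UniqueGluing

/-!
Gluing morphisms and isomorphisms of sheaves of modules given on an open cover.
-/

universe u

open CategoryTheory CategoryTheory.Limits TopologicalSpace AlgebraicGeometry Opposite

noncomputable section

namespace Groth.L21.Mod

variable {X : Scheme.{u}}

theorem image_preimage_of_le {U W : X.Opens} (h : W ≤ U) : U.ι ''ᵁ (U.ι ⁻¹ᵁ W) = W := by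
  rw [Scheme.Hom.image_preimage_eq_opensRange_inf, Scheme.Opens.opensRange_ι, inf_eq_right.mpr h]

/-- The map on sections over `W ≤ U` induced by a morphism of the restrictions to `U`. -/
def appLE {M N : X.Modules} {U : X.Opens} (φ : M.restrict U.ι ⟶ N.restrict U.ι)
    {W : X.Opens} (h : W ≤ U) : Γ(M, W) ⟶ Γ(N, W) :=
  M.presheaf.map (eqToHom (image_preimage_of_le h)).op ≫
    (M.restrictAppIso U.ι (U.ι ⁻¹ᵁ W)).inv ≫ φ.app (U.ι ⁻¹ᵁ W) ≫
      (N.restrictAppIso U.ι (U.ι ⁻¹ᵁ W)).hom ≫ N.presheaf.map (eqToHom (image_preimage_of_le h).symm).op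

theorem appLE_naturality {M N : X.Modules} {U : X.Opens} (φ : M.restrict U.ι ⟶ N.restrict U.ι)
    {V W : X.Opens} (hV : V ≤ W) (hW : W ≤ U) :
    M.presheaf.map (homOfLE hV).op ≫ appLE φ (hV.trans hW) =
      appLE φ hW ≫ N.presheaf.map (homOfLE hV).op := by
  have hle : U.ι ⁻¹ᵁ V ≤ U.ι ⁻¹ᵁ W := fun p hp => hV hp
  have hnat : (M.restrict U.ι).presheaf.map (homOfLE hle).op ≫ φ.app (U.ι ⁻¹ᵁ V) =
      φ.app (U.ι ⁻¹ᵁ W) ≫ (N.restrict U.ι).presheaf.map (homOfLE hle).op :=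
    φ.mapPresheaf.naturality (homOfLE hle).op
  simp only [appLE, Category.assoc]
  rw [← M.presheaf.map_comp_assoc, ← N.presheaf.map_comp]
  have e1 : M.presheaf.map ((homOfLE hV).op ≫ (eqToHom (image_preimage_of_le (hV.trans hW))).op) =
      M.presheaf.map (eqToHom (image_preimage_of_le hW)).op ≫
        M.presheaf.map (homOfLE (U.ι.image_mono hle)).op := by
    rw [← M.presheaf.map_comp]; rfl
  have e2 : N.presheaf.map ((eqToHom (image_preimage_of_le hW).symm).op ≫ (homOfLE hV).op) =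
      N.presheaf.map (homOfLE (U.ι.image_mono hle)).op ≫
        N.presheaf.map (eqToHom (image_preimage_of_le (hV.trans hW)).symm).op := by
    rw [← N.presheaf.map_comp]; rfl
  rw [e1, e2, Category.assoc]
  congr 1
  exact congrArg (fun t => t ≫ N.presheaf.map (eqToHom (image_preimage_of_le (hV.trans hW)).symm).op) hnat

theorem appLE_smul {M N : X.Modules} {U : X.Opens} (φ : M.restrict U.ι ⟶ N.restrict U.ι)
    {W : X.Opens} (h : W ≤ U) (r : Γ(X, W)) (s : Γ(M, W)) :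
    appLE φ h (r • s) = r • appLE φ h s := by
  simp only [appLE, ConcreteCategory.comp_apply, Scheme.Modules.map_smul]
  set r' := X.presheaf.map (eqToHom (image_preimage_of_le h)).op r with hr'
  have h1 : ∀ t : Γ(M, U.ι ''ᵁ (U.ι ⁻¹ᵁ W)), (M.restrictAppIso U.ι (U.ι ⁻¹ᵁ W)).inv (r' • t) =
      (U.ι.appIso (U.ι ⁻¹ᵁ W)).hom r' • (M.restrictAppIso U.ι (U.ι ⁻¹ᵁ W)).inv t := fun t =>
    Scheme.Modules.smul_restrictAppIso_inv_apply U.ι M (U.ι ⁻¹ᵁ W) r' t
  have h2 : ∀ (a : Γ(U, U.ι ⁻¹ᵁ W)) (t : Γ(N.restrict U.ι, U.ι ⁻¹ᵁ W)),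
      (N.restrictAppIso U.ι (U.ι ⁻¹ᵁ W)).hom (a • t) =
        (U.ι.appIso (U.ι ⁻¹ᵁ W)).inv a • (N.restrictAppIso U.ι (U.ι ⁻¹ᵁ W)).hom t := fun a t =>
    Scheme.Modules.smul_restrictAppIso_hom_apply U.ι N (U.ι ⁻¹ᵁ W) a t
  rw [h1, Scheme.Modules.Hom.app_smul, h2, Scheme.Modules.map_smul]
  congr 1
  rw [Iso.hom_inv_id_apply, hr', ← ConcreteCategory.comp_apply, ← X.presheaf.map_comp]
  rw [show (eqToHom (image_preimage_of_le h)).op ≫ (eqToHom (image_preimage_of_le h).symm).op = 𝟙 (op W)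
    from rfl, X.presheaf.map_id]
  rfl

variable {ι : Type u} {U : ι → X.Opens}

theorem isBasis_sub_cover (hU : iSup U = ⊤) :
    Opens.IsBasis (Set.range fun p : Σ i, {W : X.Opens // W ≤ U i} => p.2.1) := by
  rw [Opens.isBasis_iff_nbhd]
  intro W x hx
  obtain ⟨i, hi⟩ := Opens.mem_iSup.mp (hU.symm ▸ Opens.mem_top x : x ∈ iSup U)
  exact ⟨W ⊓ U i, ⟨⟨i, W ⊓ U i, inf_le_right⟩, rfl⟩, ⟨hx, hi⟩, inf_le_left⟩

/-- Gluing a morphism of modules from compatible natural linear maps on sections over opens contained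
in members of a cover. -/
theorem existsUnique_hom (hU : iSup U = ⊤) {M N : X.Modules}
    (φ : ∀ i (W : X.Opens), W ≤ U i → (Γ(M, W) ⟶ Γ(N, W)))
    (hnat : ∀ i j (V W : X.Opens) (hV : V ≤ U i) (hW : W ≤ U j) (h : V ≤ W),
      M.presheaf.map (homOfLE h).op ≫ φ i V hV = φ j W hW ≫ N.presheaf.map (homOfLE h).op)
    (hsmul : ∀ i W (h : W ≤ U i) (r : Γ(X, W)) (s : Γ(M, W)), φ i W h (r • s) = r • φ i W h s) :
    ∃! Φ : M ⟶ N, ∀ i W (h : W ≤ U i), Φ.app W = φ i W h := by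
  let B := fun p : Σ i, {W : X.Opens // W ≤ U i} => p.2.1
  have hB : Opens.IsBasis (Set.range B) := isBasis_sub_cover hU
  let α : (inducedFunctor B).op ⋙ M.presheaf ⟶ (inducedFunctor B).op ⋙ N.presheaf :=
    { app := fun p => φ p.unop.1 p.unop.2.1 p.unop.2.2
      naturality := fun p q g => by
        exact hnat _ _ _ _ q.unop.2.2 p.unop.2.2 g.unop.hom.le }
  let Φ₀ : M.presheaf ⟶ N.presheaf :=
    TopCat.Sheaf.restrictHomEquivHom M.presheaf ⟨N.presheaf, N.isSheaf⟩ hB α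
  have hΦ₀ : ∀ i W (h : W ≤ U i), Φ₀.app (op W) = φ i W h := fun i W h =>
    TopCat.Sheaf.extend_hom_app M.presheaf ⟨N.presheaf, N.isSheaf⟩ hB α ⟨i, W, h⟩
  have hlin : ∀ (V : (Opens X)ᵒᵖ) (r : X.ringCatSheaf.obj.obj V) (s : M.val.obj V),
      Φ₀.app V (r • s) = r • (show N.val.obj V from Φ₀.app V s) := by
    intro V r s
    refine TopCat.Presheaf.section_ext ((toAbSh X).obj N) V.unop _ _ fun x hx => ?_
    obtain ⟨i, hi⟩ := Opens.mem_iSup.mp (hU.symm ▸ Opens.mem_top x : x ∈ iSup U)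
    let W : X.Opens := V.unop ⊓ U i
    have hWV : W ≤ V.unop := inf_le_left
    have hxW : x ∈ W := ⟨hx, hi⟩
    show N.presheaf.germ V.unop x hx _ = N.presheaf.germ V.unop x hx _
    rw [← N.presheaf.germ_res_apply (homOfLE hWV) x hxW, ← N.presheaf.germ_res_apply (homOfLE hWV) x hxW]
    congr 1
    have n1 : ∀ t, N.presheaf.map (homOfLE hWV).op (Φ₀.app V t) =
        Φ₀.app (op W) (M.presheaf.map (homOfLE hWV).op t) := fun t =>
      (ConcreteCategory.congr_hom (Φ₀.naturality (homOfLE hWV).op) t).symm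
    refine (n1 (r • s)).trans ?_
    refine Eq.trans ?_ (Scheme.Modules.map_smul N (homOfLE hWV) r (Φ₀.app V s)).symm
    rw [n1, hΦ₀ i W inf_le_right, ← hsmul i W inf_le_right]
    exact congrArg _ (Scheme.Modules.map_smul M (homOfLE hWV) r s)
  let Φ : M ⟶ N := ⟨PresheafOfModules.homMk Φ₀ hlin⟩
  refine ⟨Φ, fun i W h => ?_, fun Ψ hΨ => ?_⟩
  · ext s
    exact ConcreteCategory.congr_hom (hΦ₀ i W h) s
  · have h1 : Ψ.mapPresheaf = Φ₀ :=
      TopCat.Sheaf.hom_ext M.presheaf ⟨N.presheaf, N.isSheaf⟩ hB fun p =>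
        (hΨ p.1 p.2.1 p.2.2).trans (hΦ₀ p.1 p.2.1 p.2.2).symm
    apply Scheme.Modules.hom_ext
    intro V
    ext s
    exact ConcreteCategory.congr_hom (NatTrans.congr_app h1 (op V)) s

/-- Gluing a morphism from morphisms of the restrictions to the members of a cover agreeing on
overlaps. -/
theorem existsUnique_hom_of_restrict (hU : iSup U = ⊤) {M N : X.Modules}
    (φ : ∀ i, M.restrict (U i).ι ⟶ N.restrict (U i).ι)
    (hcompat : ∀ i j (W : X.Opens) (hi : W ≤ U i) (hj : W ≤ U j), appLE (φ i) hi = appLE (φ j) hj) :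
    ∃! Φ : M ⟶ N, ∀ i W (h : W ≤ U i), Φ.app W = appLE (φ i) h :=
  existsUnique_hom hU (fun i W h => appLE (φ i) h)
    (fun i j V W hV hW h => by rw [hcompat i j V hV (h.trans hW)]; exact appLE_naturality (φ j) h hW)
    fun i W h r s => appLE_smul (φ i) h r s

theorem appLE_restrictFunctor_map {M N : X.Modules} (Φ : M ⟶ N) {U W : X.Opens} (h : W ≤ U) :
    appLE ((Scheme.Modules.restrictFunctor U.ι).map Φ) h = Φ.app W := by
  have hn := Φ.mapPresheaf.naturality (eqToHom (image_preimage_of_le h)).op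
  change M.presheaf.map (eqToHom (image_preimage_of_le h)).op ≫ Φ.app (U.ι ''ᵁ (U.ι ⁻¹ᵁ W)) ≫
      N.presheaf.map (eqToHom (image_preimage_of_le h).symm).op = Φ.app W
  rw [← Category.assoc]
  erw [hn]
  rw [Category.assoc, ← N.presheaf.map_comp]
  rw [show (eqToHom (image_preimage_of_le h)).op ≫ (eqToHom (image_preimage_of_le h).symm).op = 𝟙 (op W)
    from rfl, N.presheaf.map_id]
  exact Category.comp_id _

theorem appLE_comp {M N P : X.Modules} {U W : X.Opens} (φ : M.restrict U.ι ⟶ N.restrict U.ι)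
    (ψ : N.restrict U.ι ⟶ P.restrict U.ι) (h : W ≤ U) :
    appLE (φ ≫ ψ) h = appLE φ h ≫ appLE ψ h := by
  simp only [appLE, Category.assoc, ← Functor.map_comp_assoc]
  rw [show (eqToHom (image_preimage_of_le h).symm).op ≫ (eqToHom (image_preimage_of_le h)).op =
    𝟙 (op (U.ι ''ᵁ (U.ι ⁻¹ᵁ W))) from rfl, N.presheaf.map_id]
  simp

theorem appLE_id (M : X.Modules) {U W : X.Opens} (h : W ≤ U) :
    appLE (𝟙 (M.restrict U.ι)) h = 𝟙 _ := by
  rw [← CategoryTheory.Functor.map_id (Scheme.Modules.restrictFunctor U.ι), appLE_restrictFunctor_map]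
  rfl

/-- A morphism is determined by its restrictions on sections over a cover. -/
theorem hom_ext_appLE (hU : iSup U = ⊤) {M N : X.Modules} {Φ Ψ : M ⟶ N}
    (h : ∀ i W, W ≤ U i → Φ.app W = Ψ.app W) : Φ = Ψ := by
  have hex := existsUnique_hom hU (M := M) (N := N) (fun i W _ => Φ.app W)
    (fun i j V W _ _ h => Φ.mapPresheaf.naturality (homOfLE h).op)
    (fun i W _ r s => Φ.app_smul r s)
  exact hex.unique (fun i W _ => rfl) (fun i W hW => (h i W hW).symm)

/-- Gluing isomorphisms given on a cover and agreeing on overlaps. -/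
theorem exists_iso_of_restrict (hU : iSup U = ⊤) {M N : X.Modules}
    (e : ∀ i, M.restrict (U i).ι ≅ N.restrict (U i).ι)
    (hcompat : ∀ i j (W : X.Opens) (hi : W ≤ U i) (hj : W ≤ U j),
      appLE (e i).hom hi = appLE (e j).hom hj) :
    ∃ E : M ≅ N, ∀ i W (h : W ≤ U i), E.hom.app W = appLE (e i).hom h := by
  have hinv : ∀ i W (h : W ≤ U i), appLE (e i).hom h ≫ appLE (e i).inv h = 𝟙 _ := fun i W h => by
    rw [← appLE_comp, Iso.hom_inv_id, appLE_id]
  have hinv' : ∀ i W (h : W ≤ U i), appLE (e i).inv h ≫ appLE (e i).hom h = 𝟙 _ := fun i W h => by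
    rw [← appLE_comp, Iso.inv_hom_id, appLE_id]
  obtain ⟨Φ, hΦ, -⟩ := existsUnique_hom_of_restrict hU (fun i => (e i).hom) hcompat
  obtain ⟨Ψ, hΨ, -⟩ := existsUnique_hom_of_restrict hU (fun i => (e i).inv) fun i j W hi hj => by
    calc appLE (e i).inv hi
        = appLE (e i).inv hi ≫ appLE (e j).hom hj ≫ appLE (e j).inv hj := by rw [hinv, Category.comp_id]
      _ = appLE (e j).inv hj := by rw [← hcompat i j W hi hj, ← Category.assoc, hinv', Category.id_comp]
  refine ⟨⟨Φ, Ψ, hom_ext_appLE hU fun i W h => ?_, hom_ext_appLE hU fun i W h => ?_⟩, hΦ⟩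
  · rw [Scheme.Modules.Hom.comp_app, hΦ i W h, hΨ i W h, hinv]; rfl
  · rw [Scheme.Modules.Hom.comp_app, hΦ i W h, hΨ i W h, hinv']; rfl

/-- Restricting twice. -/
def restrictLEIso (M : X.Modules) {V U : X.Opens} (h : V ≤ U) :
    (M.restrict U.ι).restrict (X.homOfLE h) ≅ M.restrict V.ι :=
  ((Scheme.Modules.restrictFunctorComp (X.homOfLE h) U.ι).app M).symm ≪≫
    (Scheme.Modules.restrictFunctorCongr (X.homOfLE_ι h)).app M

/-- Restriction of an isomorphism to a smaller open. -/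
def isoRestrictLE {M N : X.Modules} {V U : X.Opens} (h : V ≤ U)
    (e : M.restrict U.ι ≅ N.restrict U.ι) : M.restrict V.ι ≅ N.restrict V.ι :=
  (restrictLEIso M h).symm ≪≫ (Scheme.Modules.restrictFunctor (X.homOfLE h)).mapIso e ≪≫
    restrictLEIso N h

end Groth.L21.Mod
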