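import Groth.Agent.L21.Mod.Stalks
import Mathlib.CategoryTheory.Preadditive.AdditiveFunctor
import Mathlib.CategoryTheory.Limits.Preserves.Shapes.AbelianImages

/-!
Sheaves of modules: restriction along open immersions, locality of mono / epi / iso / exactness,
and supports.
-/

universe u

open CategoryTheory CategoryTheory.Limits TopologicalSpace AlgebraicGeometry Opposite

noncomputable section

namespace Groth.L21.Mod

variable {X Y : Scheme.{u}}

attribute [local instance] preservesBinaryBiproducts_of_preservesBinaryCoproducts in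
instance (j : Y ⟶ X) [IsOpenImmersion j] : (Scheme.Modules.restrictFunctor j).Additive :=
  Functor.additive_of_preservesBinaryBiproducts _

/-- Restriction along an open immersion does not change stalks. -/
def restrictStalkF (j : Y ⟶ X) [IsOpenImmersion j] (y : Y) :
    Scheme.Modules.restrictFunctor j ⋙ stalkF Y y ≅ stalkF X (j y) :=
  Scheme.Modules.restrictStalkNatIso j y

theorem restrict_stalk_map (j : Y ⟶ X) [IsOpenImmersion j] {M N : X.Modules} (φ : M ⟶ N) (y : Y) :
    (stalkF Y y).map ((Scheme.Modules.restrictFunctor j).map φ) =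
      (restrictStalkF j y).hom.app M ≫ (stalkF X (j y)).map φ ≫ (restrictStalkF j y).inv.app N := by
  rw [← NatTrans.naturality_assoc, Iso.hom_inv_id_app, Category.comp_id]
  rfl

/-- Restriction along an open immersion is exact. -/
theorem shortExact_restrict (j : Y ⟶ X) [IsOpenImmersion j] {S : ShortComplex X.Modules}
    (hS : S.ShortExact) : (S.map (Scheme.Modules.restrictFunctor j)).ShortExact := by
  rw [shortExact_iff_stalk]
  intro y
  exact ShortComplex.shortExact_of_iso (S.mapNatIso (restrictStalkF j y)).symm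
    ((shortExact_iff_stalk S).mp hS (j y))

instance (j : Y ⟶ X) [IsOpenImmersion j] : PreservesFiniteColimits (Scheme.Modules.restrictFunctor j) :=
  inferInstance

instance (j : Y ⟶ X) [IsOpenImmersion j] : PreservesFiniteLimits (Scheme.Modules.restrictFunctor j) := by
  have h := ((Scheme.Modules.restrictFunctor j).exact_tfae.out 0 3).mp
    (fun S hS => shortExact_restrict j hS)
  exact h.1

instance (j : Y ⟶ X) [IsOpenImmersion j] {M N : X.Modules} (φ : M ⟶ N) [Mono φ] :
    Mono ((Scheme.Modules.restrictFunctor j).map φ) :=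
  Functor.map_mono _ φ

section Cover

variable {ι : Type*} {U : ι → Scheme.{u}} (j : ∀ i, U i ⟶ X) [∀ i, IsOpenImmersion (j i)]
  (hj : ∀ x : X, ∃ i y, j i y = x)

include hj

theorem stalk_iso_of_restrict {M N : X.Modules} (φ : M ⟶ N)
    {P : MorphismProperty AddCommGrpCat.{u}} [P.RespectsIso]
    (h : ∀ i (y : U i), P ((stalkF (U i) y).map ((Scheme.Modules.restrictFunctor (j i)).map φ)))
    (x : X) : P ((stalkF X x).map φ) := by
  obtain ⟨i, y, rfl⟩ := hj x
  have h' := h i y
  rw [restrict_stalk_map] at h'
  exact (P.cancel_right_of_respectsIso _ _).mp ((P.cancel_left_of_respectsIso _ _).mp h')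

/-- Being an isomorphism is local. -/
theorem isIso_of_restrict {M N : X.Modules} (φ : M ⟶ N)
    (h : ∀ i, IsIso ((Scheme.Modules.restrictFunctor (j i)).map φ)) : IsIso φ :=
  (isIso_iff_stalk φ).mpr fun x => stalk_iso_of_restrict j hj φ
    (P := MorphismProperty.isomorphisms _) (fun i y => (isIso_iff_stalk _).mp (h i) y) x

/-- Being a monomorphism is local. -/
theorem mono_of_restrict {M N : X.Modules} (φ : M ⟶ N)
    (h : ∀ i, Mono ((Scheme.Modules.restrictFunctor (j i)).map φ)) : Mono φ :=
  (mono_iff_stalk φ).mpr fun x => stalk_iso_of_restrict j hj φ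
    (P := MorphismProperty.monomorphisms _) (fun i y => (mono_iff_stalk _).mp (h i) y) x

/-- Being an epimorphism is local. -/
theorem epi_of_restrict {M N : X.Modules} (φ : M ⟶ N)
    (h : ∀ i, Epi ((Scheme.Modules.restrictFunctor (j i)).map φ)) : Epi φ :=
  (epi_iff_stalk φ).mpr fun x => stalk_iso_of_restrict j hj φ
    (P := MorphismProperty.epimorphisms _) (fun i y => (epi_iff_stalk _).mp (h i) y) x

/-- Equality of morphisms is local. -/
theorem hom_ext_of_restrict {M N : X.Modules} {φ ψ : M ⟶ N}
    (h : ∀ i, (Scheme.Modules.restrictFunctor (j i)).map φ = (Scheme.Modules.restrictFunctor (j i)).map ψ) :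
    φ = ψ := by
  refine hom_ext_stalk fun x => ?_
  obtain ⟨i, y, rfl⟩ := hj x
  have h' := congrArg (stalkF (U i) y).map (h i)
  rw [restrict_stalk_map, restrict_stalk_map] at h'
  exact (cancel_mono ((restrictStalkF (j i) y).inv.app N)).mp
    ((cancel_epi ((restrictStalkF (j i) y).hom.app M)).mp h')

/-- Vanishing is local. -/
theorem isZero_of_restrict (M : X.Modules) (h : ∀ i, IsZero (M.restrict (j i))) : IsZero M := by
  rw [IsZero.iff_id_eq_zero]
  exact hom_ext_of_restrict j hj fun i => (h i).eq_of_src _ _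

/-- Exactness is local. -/
theorem exact_of_restrict (S : ShortComplex X.Modules)
    (h : ∀ i, (S.map (Scheme.Modules.restrictFunctor (j i))).Exact) : S.Exact := by
  rw [exact_iff_stalk]
  intro x
  obtain ⟨i, y, rfl⟩ := hj x
  exact ShortComplex.exact_of_iso (S.mapNatIso (restrictStalkF (j i) y)) ((exact_iff_stalk _).mp (h i) y)

theorem shortExact_of_restrict (S : ShortComplex X.Modules)
    (h : ∀ i, (S.map (Scheme.Modules.restrictFunctor (j i))).ShortExact) : S.ShortExact :=
  haveI := mono_of_restrict j hj S.f fun i => (h i).mono_f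
  haveI := epi_of_restrict j hj S.g fun i => (h i).epi_g
  ⟨exact_of_restrict j hj S fun i => (h i).exact⟩

end Cover

/-- The cover hypothesis for a family of opens. -/
theorem exists_opens_ι {ι : Type*} (U : ι → X.Opens) (hU : iSup U = ⊤) (x : X) :
    ∃ i, ∃ y : (U i : Scheme), (U i).ι y = x := by
  obtain ⟨i, hi⟩ := Opens.mem_iSup.mp (hU.symm ▸ Opens.mem_top x : x ∈ iSup U)
  exact ⟨i, ⟨x, hi⟩, rfl⟩

theorem isIso_of_restrict_opens {ι : Type*} (U : ι → X.Opens) (hU : iSup U = ⊤) {M N : X.Modules}
    (φ : M ⟶ N) (h : ∀ i, IsIso ((Scheme.Modules.restrictFunctor (U i).ι).map φ)) : IsIso φ :=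
  isIso_of_restrict (fun i => (U i).ι) (exists_opens_ι U hU) φ h

theorem mono_of_restrict_opens {ι : Type*} (U : ι → X.Opens) (hU : iSup U = ⊤) {M N : X.Modules}
    (φ : M ⟶ N) (h : ∀ i, Mono ((Scheme.Modules.restrictFunctor (U i).ι).map φ)) : Mono φ :=
  mono_of_restrict (fun i => (U i).ι) (exists_opens_ι U hU) φ h

theorem epi_of_restrict_opens {ι : Type*} (U : ι → X.Opens) (hU : iSup U = ⊤) {M N : X.Modules}
    (φ : M ⟶ N) (h : ∀ i, Epi ((Scheme.Modules.restrictFunctor (U i).ι).map φ)) : Epi φ :=
  epi_of_restrict (fun i => (U i).ι) (exists_opens_ι U hU) φ h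

/-! ### Supports -/

theorem mem_support_iff_not_isZero (M : X.Modules) (x : X) :
    x ∈ CohB1.support M ↔ ¬ IsZero ((stalkF X x).obj M) :=
  not_congr ⟨fun h => @AddCommGrpCat.isZero_of_subsingleton _ h,
    fun h => AddCommGrpCat.subsingleton_of_isZero h⟩

theorem support_congr {M N : X.Modules} (e : M ≅ N) : CohB1.support M = CohB1.support N := by
  ext x
  rw [mem_support_iff_not_isZero, mem_support_iff_not_isZero, ((stalkF X x).mapIso e).isZero_iff]

theorem support_restrict (j : Y ⟶ X) [IsOpenImmersion j] (M : X.Modules) :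
    CohB1.support (M.restrict j) = j ⁻¹' CohB1.support M := by
  ext y
  rw [Set.mem_preimage, mem_support_iff_not_isZero, mem_support_iff_not_isZero,
    ← ((restrictStalkF j y).app M).isZero_iff]
  rfl

/-- The support of an extension is the union of the supports. -/
theorem support_of_shortExact {S : ShortComplex X.Modules} (hS : S.ShortExact) :
    CohB1.support S.X₂ = CohB1.support S.X₁ ∪ CohB1.support S.X₃ := by
  ext x
  have h := (shortExact_iff_stalk S).mp hS x
  simp only [Set.mem_union, mem_support_iff_not_isZero]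
  constructor
  · intro h2
    by_contra hc
    push Not at hc
    exact h2 (h.exact.isZero_X₂ (hc.1.eq_of_src _ _) (hc.2.eq_of_tgt _ _))
  · rintro (h1 | h3) h2
    · haveI : Mono ((stalkF X x).map S.f) := h.mono_f
      exact h1 (IsZero.of_mono ((stalkF X x).map S.f) h2)
    · haveI : Epi ((stalkF X x).map S.g) := h.epi_g
      exact h3 (IsZero.of_epi ((stalkF X x).map S.g) h2)

theorem support_mono {M N : X.Modules} (φ : M ⟶ N) [Mono φ] : CohB1.support M ⊆ CohB1.support N := by
  intro x hx
  rw [mem_support_iff_not_isZero] at hx ⊢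
  exact fun h => hx (IsZero.of_mono ((stalkF X x).map φ) h)

theorem support_epi {M N : X.Modules} (φ : M ⟶ N) [Epi φ] : CohB1.support N ⊆ CohB1.support M := by
  intro x hx
  rw [mem_support_iff_not_isZero] at hx ⊢
  exact fun h => hx (IsZero.of_epi ((stalkF X x).map φ) h)

end Groth.L21.Mod
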