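import Groth.Prelude.Def_Coh
import Groth.Prelude.Def_CohB1
import Mathlib.AlgebraicGeometry.Modules.Sheaf
import Mathlib.Algebra.Category.ModuleCat.Presheaf.Sheafification
import Mathlib.Topology.Sheaves.Abelian
import Mathlib.Algebra.Category.Grp.AB
import Mathlib.Algebra.Category.Grp.FilteredColimits
import Mathlib.Algebra.Category.Grp.Zero

/-!
Stalks of sheaves of modules on a scheme: exactness, joint conservativity, support.
-/

universe v u v₁ u₁

open CategoryTheory CategoryTheory.Limits TopologicalSpace AlgebraicGeometry Opposite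

noncomputable section

namespace Groth.L21.Mod

section toSheaf

variable {C : Type u₁} [Category.{v₁} C] {J : GrothendieckTopology C} {R : Sheaf J RingCat.{u}}
  [HasSheafify J AddCommGrpCat.{v}] [J.WEqualsLocallyBijective AddCommGrpCat.{v}]

/-- The forgetful functor to abelian sheaves preserves colimits. -/
theorem preservesColimitsOfShape_toSheaf {K : Type*} [Category K]
    [HasColimitsOfShape K (PresheafOfModules.{v} R.obj)]
    [PreservesColimitsOfShape K (PresheafOfModules.toPresheaf.{v} R.obj)] :
    PreservesColimitsOfShape K (SheafOfModules.toSheaf.{v} R) where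
  preservesColimit {D} := by
    let adj := PresheafOfModules.sheafificationAdjunction.{v} (𝟙 R.obj)
    let L := PresheafOfModules.sheafification.{v} (𝟙 R.obj)
    let G := SheafOfModules.forget R ⋙ PresheafOfModules.restrictScalars.{v} (𝟙 R.obj)
    haveI : G.Full := inferInstance
    haveI : G.Faithful := inferInstance
    haveI : IsIso adj.counit := inferInstance
    let e : (D ⋙ G) ⋙ L ≅ D :=
      Functor.associator _ _ _ ≪≫ Functor.isoWhiskerLeft D (asIso adj.counit) ≪≫ D.rightUnitor
    haveI : PreservesColimit (D ⋙ G) L := adj.leftAdjoint_preservesColimits.preservesColimitsOfShape.preservesColimit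
    let c := colimit.cocone (D ⋙ G)
    have hc := isColimitOfPreserves L (colimit.isColimit (D ⋙ G))
    haveI : PreservesColimit (D ⋙ G) (L ⋙ SheafOfModules.toSheaf.{v} R) := by
      haveI : PreservesColimit (D ⋙ G)
          (PresheafOfModules.toPresheaf.{v} R.obj ⋙ presheafToSheaf J AddCommGrpCat.{v}) := inferInstance
      exact preservesColimit_of_natIso (D ⋙ G) (PresheafOfModules.sheafificationCompToSheaf (𝟙 R.obj)).symm
    haveI : PreservesColimit ((D ⋙ G) ⋙ L) (SheafOfModules.toSheaf.{v} R) :=
      preservesColimit_of_preserves_colimit_cocone hc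
        (isColimitOfPreserves (L ⋙ SheafOfModules.toSheaf.{v} R) (colimit.isColimit (D ⋙ G)))
    exact preservesColimit_of_iso_diagram _ e

end toSheaf

variable {X : Scheme.{u}}

/-- The underlying abelian sheaf, as a sheaf on the topological space. -/
abbrev toAbSh (X : Scheme.{u}) : X.Modules ⥤ TopCat.Sheaf AddCommGrpCat.{u} X.toTopCat :=
  SheafOfModules.toSheaf X.ringCatSheaf

instance : PreservesFiniteLimits (toAbSh X) :=
  inferInstanceAs (PreservesFiniteLimits (SheafOfModules.toSheaf X.ringCatSheaf))

instance : PreservesFiniteColimits (toAbSh X) :=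
  ⟨fun K _ _ => preservesColimitsOfShape_toSheaf (R := X.ringCatSheaf)⟩

theorem preservesColimitsOfSize_toAbSh : PreservesColimitsOfSize.{u, u} (toAbSh X) :=
  ⟨fun {_ _} => preservesColimitsOfShape_toSheaf (R := X.ringCatSheaf)⟩

instance : (toAbSh X).Additive := inferInstanceAs (SheafOfModules.toSheaf X.ringCatSheaf).Additive
instance : (toAbSh X).Faithful := inferInstanceAs (SheafOfModules.toSheaf X.ringCatSheaf).Faithful
instance : (toAbSh X).ReflectsIsomorphisms :=
  inferInstanceAs (SheafOfModules.toSheaf X.ringCatSheaf).ReflectsIsomorphisms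

/-- The stalk functor at a point. -/
abbrev stalkF (X : Scheme.{u}) (x : X) : X.Modules ⥤ AddCommGrpCat.{u} :=
  Scheme.Modules.toPresheaf X ⋙ TopCat.Presheaf.stalkFunctor AddCommGrpCat.{u} x

theorem stalkF_obj (M : X.Modules) (x : X) : (stalkF X x).obj M = M.presheaf.stalk x := rfl

theorem stalkF_map {M N : X.Modules} (φ : M ⟶ N) (x : X) :
    (stalkF X x).map φ = (TopCat.Presheaf.stalkFunctor AddCommGrpCat.{u} x).map φ.mapPresheaf := rfl

/-- The stalk functor factors through abelian sheaves. -/
def stalkFIso (x : X) : toAbSh X ⋙ TopCat.Sheaf.forget _ _ ⋙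
    TopCat.Presheaf.stalkFunctor AddCommGrpCat.{u} x ≅ stalkF X x :=
  Iso.refl _

instance (x : X) : (stalkF X x).Additive :=
  Functor.additive_of_iso (stalkFIso x)

instance (x : X) : PreservesFiniteLimits (stalkF X x) :=
  preservesFiniteLimits_of_natIso (stalkFIso x)

instance (x : X) : PreservesFiniteColimits (stalkF X x) :=
  preservesFiniteColimits_of_natIso (stalkFIso x)

/-- The germ of a section of a module. -/
theorem stalkF_map_germ {M N : X.Modules} (φ : M ⟶ N) (U : X.Opens) (x : X) (hx : x ∈ U)
    (s : Γ(M, U)) :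
    (stalkF X x).map φ (M.presheaf.germ U x hx s) = N.presheaf.germ U x hx (φ.app U s) :=
  TopCat.Presheaf.stalkFunctor_map_germ_apply U x hx φ.mapPresheaf s

/-- Being an isomorphism is checked on stalks. -/
theorem isIso_iff_stalk {M N : X.Modules} (φ : M ⟶ N) :
    IsIso φ ↔ ∀ x, IsIso ((stalkF X x).map φ) := by
  rw [← isIso_iff_of_reflects_iso φ (toAbSh X),
    TopCat.Presheaf.isIso_iff_stalkFunctor_map_iso ((toAbSh X).map φ)]
  rfl

theorem isIso_iff_stalk_bijective {M N : X.Modules} (φ : M ⟶ N) :
    IsIso φ ↔ ∀ x, Function.Bijective ((stalkF X x).map φ) := by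
  rw [isIso_iff_stalk]
  exact forall_congr' fun x => ConcreteCategory.isIso_iff_bijective _

/-- Two morphisms with the same stalk maps are equal. -/
theorem hom_ext_stalk {M N : X.Modules} {φ ψ : M ⟶ N}
    (h : ∀ x, (stalkF X x).map φ = (stalkF X x).map ψ) : φ = ψ := by
  apply Scheme.Modules.hom_ext
  intro U
  ext s
  refine TopCat.Presheaf.section_ext ((toAbSh X).obj N) U _ _ fun x hx => ?_
  show N.presheaf.germ U x hx (φ.app U s) = N.presheaf.germ U x hx (ψ.app U s)
  rw [← stalkF_map_germ φ, ← stalkF_map_germ ψ, h]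

/-- A morphism is zero if it is zero on stalks. -/
theorem eq_zero_iff_stalk {M N : X.Modules} (φ : M ⟶ N) :
    φ = 0 ↔ ∀ x, (stalkF X x).map φ = 0 := by
  refine ⟨fun h x => by rw [h, Functor.map_zero], fun h => hom_ext_stalk fun x => ?_⟩
  rw [h x, Functor.map_zero]

theorem mono_iff_stalk {M N : X.Modules} (φ : M ⟶ N) :
    Mono φ ↔ ∀ x, Mono ((stalkF X x).map φ) := by
  refine ⟨fun _ x => inferInstance, fun h => Preadditive.mono_of_cancel_zero _ fun {P} g hg =>
    hom_ext_stalk fun x => ?_⟩
  have h0 := congrArg (stalkF X x).map hg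
  rw [Functor.map_comp, Functor.map_zero] at h0
  haveI := h x
  rw [Functor.map_zero]
  exact zero_of_comp_mono _ h0

theorem mono_iff_stalk_injective {M N : X.Modules} (φ : M ⟶ N) :
    Mono φ ↔ ∀ x, Function.Injective ((stalkF X x).map φ) := by
  rw [mono_iff_stalk]
  exact forall_congr' fun x => AddCommGrpCat.mono_iff_injective _

theorem epi_iff_stalk {M N : X.Modules} (φ : M ⟶ N) :
    Epi φ ↔ ∀ x, Epi ((stalkF X x).map φ) := by
  refine ⟨fun _ x => inferInstance, fun h => Preadditive.epi_of_cancel_zero _ fun {P} g hg =>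
    hom_ext_stalk fun x => ?_⟩
  have h0 := congrArg (stalkF X x).map hg
  rw [Functor.map_comp, Functor.map_zero] at h0
  haveI := h x
  rw [Functor.map_zero]
  exact zero_of_epi_comp _ h0

theorem epi_iff_stalk_surjective {M N : X.Modules} (φ : M ⟶ N) :
    Epi φ ↔ ∀ x, Function.Surjective ((stalkF X x).map φ) := by
  rw [epi_iff_stalk]
  exact forall_congr' fun x => AddCommGrpCat.epi_iff_surjective _

theorem isZero_iff_stalk (M : X.Modules) :
    IsZero M ↔ ∀ x, IsZero ((stalkF X x).obj M) := by
  refine ⟨fun h x => (stalkF X x).map_isZero h, fun h => ?_⟩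
  rw [IsZero.iff_id_eq_zero, eq_zero_iff_stalk]
  exact fun x => (h x).eq_of_src _ _

theorem isZero_iff_stalk_subsingleton (M : X.Modules) :
    IsZero M ↔ ∀ x, Subsingleton (M.presheaf.stalk x) := by
  rw [isZero_iff_stalk]
  exact forall_congr' fun x => ⟨fun h => AddCommGrpCat.subsingleton_of_isZero h,
    fun h => @AddCommGrpCat.isZero_of_subsingleton _ h⟩

/-- A module is zero iff its support is empty. -/
theorem isZero_iff_support_eq_empty (M : X.Modules) : IsZero M ↔ CohB1.support M = ∅ := by
  rw [isZero_iff_stalk_subsingleton, Set.eq_empty_iff_forall_notMem]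
  exact forall_congr' fun x => not_not.symm

/-- Exactness is checked on stalks. -/
theorem exact_iff_stalk (S : ShortComplex X.Modules) :
    S.Exact ↔ ∀ x, (S.map (stalkF X x)).Exact := by
  refine ⟨fun h x => h.map (stalkF X x), fun h => ?_⟩
  rw [ShortComplex.exact_iff_isZero_homology, isZero_iff_stalk]
  exact fun x => ((ShortComplex.exact_iff_isZero_homology _).mp (h x)).of_iso
    (ShortComplex.mapHomologyIso S (stalkF X x)).symm

theorem shortExact_iff_stalk (S : ShortComplex X.Modules) :
    S.ShortExact ↔ ∀ x, (S.map (stalkF X x)).ShortExact := by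
  refine ⟨fun h x => h.map_of_exact (stalkF X x), fun h => ?_⟩
  haveI := (mono_iff_stalk S.f).mpr fun x => (h x).mono_f
  haveI := (epi_iff_stalk S.g).mpr fun x => (h x).epi_g
  exact ⟨(exact_iff_stalk S).mpr fun x => (h x).exact⟩

end Groth.L21.Mod
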