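import Groth.Agent.L21.Mod.Locality
import Groth.Agent.L15.Ref.Stalk

/-!
An isomorphism of stalks of coherent modules spreads to a neighbourhood.
-/

set_option autoImplicit false
set_option linter.style.haveILetI false
set_option backward.isDefEq.respectTransparency false
set_option backward.isDefEq.respectTransparency.types false
universe u

open CategoryTheory AlgebraicGeometry TopologicalSpace Opposite
open Groth.L18.Frame (rs rs_rs)
open Groth.L20.ModStalk (germ_rs germ_smul)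
open Groth.L16.HomSh (Sec ev ev_rs ev_smul secEquiv)
open Groth.L15.Ref (secOf germ_secOf toSec toSec_bijective exists_rep evalStalk_bijective)

noncomputable section

namespace Groth.L21.Mod

variable {X : Scheme.{u}} {A B : X.Modules} {U : X.Opens}

/-- A family of linear maps as a morphism of restrictions. -/
def homOfSec (φ : Sec A B U) : A.restrict U.ι ⟶ B.restrict U.ι :=
  ⟨PresheafOfModules.homMk
    { app := fun W => (A.restrictAppIso U.ι W.unop).hom ≫
        AddCommGrpCat.ofHom (ev φ (show U.ι ''ᵁ W.unop ≤ U from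
          (Scheme.Hom.image_le_opensRange U.ι _).trans U.opensRange_ι.le)) ≫
        (B.restrictAppIso U.ι W.unop).inv
      naturality := fun {W V} i => by
        ext x
        exact (ev_rs φ _ (U.ι.image_mono i.unop.le) x).symm }
    (fun W r x => by
      show (B.restrictAppIso U.ι W.unop).inv (ev φ _ ((A.restrictAppIso U.ι W.unop).hom
        ((show Γ(U, W.unop) from r) • (show Γ(A.restrict U.ι, W.unop) from x)))) = _
      rw [Scheme.Modules.smul_restrictAppIso_hom_apply, ev_smul, Scheme.Modules.smul_restrictAppIso_inv_apply,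
        Iso.inv_hom_id_apply]
      rfl)⟩

theorem homOfSec_app (φ : Sec A B U) (W : (U : Scheme.{u}).Opens) (x : Γ(A.restrict U.ι, W)) :
    (homOfSec φ).app W x = (B.restrictAppIso U.ι W).inv (ev φ
      ((Scheme.Hom.image_le_opensRange U.ι W).trans U.opensRange_ι.le) ((A.restrictAppIso U.ι W).hom x)) := rfl

/-- Mutually inverse sections of the sheaves of homomorphisms give an isomorphism. -/
def isoOfSec (φ : Sec A B U) (ψ : Sec B A U) (h₁ : ∀ (W : X.Opens) (h : W ≤ U) x, ev ψ h (ev φ h x) = x)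
    (h₂ : ∀ (W : X.Opens) (h : W ≤ U) x, ev φ h (ev ψ h x) = x) : A.restrict U.ι ≅ B.restrict U.ι where
  hom := homOfSec φ
  inv := homOfSec ψ
  hom_inv_id := Scheme.Modules.hom_ext _ _ fun W => ConcreteCategory.hom_ext _ _ fun x => by
    show (homOfSec ψ).app W ((homOfSec φ).app W x) = x
    rw [homOfSec_app, homOfSec_app, Iso.inv_hom_id_apply, h₁, Iso.hom_inv_id_apply]
  inv_hom_id := Scheme.Modules.hom_ext _ _ fun W => ConcreteCategory.hom_ext _ _ fun x => by
    show (homOfSec φ).app W ((homOfSec ψ).app W x) = x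
    rw [homOfSec_app, homOfSec_app, Iso.inv_hom_id_apply, h₂, Iso.hom_inv_id_apply]

/-- Composition of sections of sheaves of homomorphisms. -/
def compSec {C : X.Modules} (φ : Sec A B U) (ψ : Sec B C U) : Sec A C U :=
  ⟨fun W => (ev ψ W.2).comp (ev φ W.2),
    fun W W' h h' x => by
      show rs C h' (ev ψ h (ev φ h x)) = ev ψ _ (ev φ _ (rs A h' x))
      rw [ev_rs, ev_rs],
    fun W h a x => by
      show ev ψ h (ev φ h (a • x)) = a • ev ψ h (ev φ h x)
      rw [ev_smul, ev_smul]⟩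

/-- The identity section. -/
def idSec : Sec A A U :=
  ⟨fun _ => AddMonoidHom.id _, fun _ _ _ _ _ => rfl, fun _ _ _ _ => rfl⟩

/-- A composite which is the identity at a point is the identity near it. -/
theorem exists_nhd_comp_eq [IsLocallyNoetherian X] (hA : Coh.IsCoh A) (g : Γ(RefHull.homSh A B, U))
    (h : Γ(RefHull.homSh B A, U)) {x : X} (hx : x ∈ U)
    (hgh : ∀ v, h.1 ⟨x, hx⟩ (g.1 ⟨x, hx⟩ v) = v) :
    ∃ (V : X.Opens) (hV : V ≤ U), x ∈ V ∧
      ∀ (y : X) (hy : y ∈ V) v, h.1 ⟨y, hV hy⟩ (g.1 ⟨y, hV hy⟩ v) = v := by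
  haveI : Coh.IsQCoh A := hA.1
  obtain ⟨k, hk⟩ := (toSec_bijective (M := A) (N := A) U).2 (compSec (toSec U g) (toSec U h))
  obtain ⟨i, hi⟩ := (toSec_bijective (M := A) (N := A) U).2 idSec
  have hk' : ∀ (y : X) (hy : y ∈ U) v, k.1 ⟨y, hy⟩ v = h.1 ⟨y, hy⟩ (g.1 ⟨y, hy⟩ v) := fun y hy v => by
    obtain ⟨W, hW, hyW, m, rfl⟩ := exists_rep hy v
    rw [← germ_secOf k hW m y hyW, ← germ_secOf g hW m y hyW, ← germ_secOf h hW _ y hyW]
    exact congrArg _ (congrArg (fun θ : Sec A A U => ev θ hW m) hk)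
  have hi' : ∀ (y : X) (hy : y ∈ U) v, i.1 ⟨y, hy⟩ v = v := fun y hy v => by
    obtain ⟨W, hW, hyW, m, rfl⟩ := exists_rep hy v
    rw [← germ_secOf i hW m y hyW]
    exact congrArg _ (congrArg (fun θ : Sec A A U => ev θ hW m) hi)
  have h0 : (RefHull.homSh A A).presheaf.germ U x hx k = (RefHull.homSh A A).presheaf.germ U x hx i := by
    refine (evalStalk_bijective A A hA x).1 ?_
    rw [RefHull.evalStalk_germ, RefHull.evalStalk_germ]
    exact LinearMap.ext fun v => by rw [hk', hi', hgh]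
  obtain ⟨V, hxV, i₁, i₂, e⟩ := TopCat.Presheaf.germ_eq (RefHull.homSh A A).presheaf x hx hx k i h0
  refine ⟨V, i₁.le, hxV, fun y hy v => ?_⟩
  have e' : k.1 ⟨y, i₁.le hy⟩ = i.1 ⟨y, i₂.le hy⟩ :=
    congrFun (congrArg Subtype.val e) ⟨y, hy⟩
  rw [← hk', e', hi']

/-- An isomorphism of stalks of coherent modules spreads to mutually inverse sections. -/
theorem exists_sec_of_stalk [IsLocallyNoetherian X] (hA : Coh.IsCoh A) (hB : Coh.IsCoh B) {x : X}
    (e : A.presheaf.stalk x ≃ₗ[X.presheaf.stalk x] B.presheaf.stalk x) {U₀ : X.Opens} (hx₀ : x ∈ U₀) :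
    ∃ V : X.Opens, x ∈ V ∧ V ≤ U₀ ∧ ∃ (φ : Sec A B V) (ψ : Sec B A V),
      (∀ (W : X.Opens) (h : W ≤ V) m, ev ψ h (ev φ h m) = m) ∧
      ∀ (W : X.Opens) (h : W ≤ V) m, ev φ h (ev ψ h m) = m := by
  haveI : Coh.IsQCoh A := hA.1
  haveI : Coh.IsQCoh B := hB.1
  obtain ⟨θ, hθ⟩ := (evalStalk_bijective A B hA x).2 e.toLinearMap
  obtain ⟨Ug, hg, g, rfl⟩ := TopCat.Presheaf.exists_germ_eq (F := (RefHull.homSh A B).presheaf) (x := x) θ
  obtain ⟨θ', hθ'⟩ := (evalStalk_bijective B A hB x).2 e.symm.toLinearMap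
  obtain ⟨Uh, hh, h, rfl⟩ := TopCat.Presheaf.exists_germ_eq (F := (RefHull.homSh B A).presheaf) (x := x) θ'
  rw [RefHull.evalStalk_germ] at hθ hθ'
  let W := Ug ⊓ Uh ⊓ U₀
  let g' : Γ(RefHull.homSh A B, W) := rs (RefHull.homSh A B) (inf_le_left.trans inf_le_left) g
  let h' : Γ(RefHull.homSh B A, W) := rs (RefHull.homSh B A) (inf_le_left.trans inf_le_right) h
  have hxW : x ∈ W := ⟨⟨hg, hh⟩, hx₀⟩
  have hgx : g'.1 ⟨x, hxW⟩ = e.toLinearMap := hθ
  have hhx : h'.1 ⟨x, hxW⟩ = e.symm.toLinearMap := hθ'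
  obtain ⟨V₁, hV₁, hx₁, h₁⟩ := exists_nhd_comp_eq hA g' h' hxW fun v => by
    rw [hgx, hhx]; exact e.symm_apply_apply v
  obtain ⟨V₂, hV₂, hx₂, h₂⟩ := exists_nhd_comp_eq hB h' g' hxW fun v => by
    rw [hgx, hhx]; exact e.apply_symm_apply v
  let V := V₁ ⊓ V₂
  let g'' : Γ(RefHull.homSh A B, V) := rs (RefHull.homSh A B) (inf_le_left.trans hV₁) g'
  let h'' : Γ(RefHull.homSh B A, V) := rs (RefHull.homSh B A) (inf_le_left.trans hV₁) h'
  refine ⟨V, ⟨hx₁, hx₂⟩, (inf_le_left.trans hV₁).trans inf_le_right,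
    toSec V g'', toSec V h'', fun W' hW' m => ?_, fun W' hW' m => ?_⟩
  · refine Groth.L15.Ref.sec_ext fun y hy => ?_
    show A.presheaf.germ W' y hy (secOf h'' hW' (secOf g'' hW' m)) = _
    rw [germ_secOf, germ_secOf]
    exact h₁ y (hW' hy).1 _
  · refine Groth.L15.Ref.sec_ext fun y hy => ?_
    show B.presheaf.germ W' y hy (secOf g'' hW' (secOf h'' hW' m)) = _
    rw [germ_secOf, germ_secOf]
    exact h₂ y (hW' hy).2 _

/-- An isomorphism of stalks of coherent modules spreads to a neighbourhood. -/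
theorem exists_iso_restrict_of_stalk [IsLocallyNoetherian X] (hA : Coh.IsCoh A) (hB : Coh.IsCoh B) {x : X}
    (e : A.presheaf.stalk x ≃ₗ[X.presheaf.stalk x] B.presheaf.stalk x) {U₀ : X.Opens} (hx₀ : x ∈ U₀) :
    ∃ V : X.Opens, x ∈ V ∧ V ≤ U₀ ∧ Nonempty (A.restrict V.ι ≅ B.restrict V.ι) := by
  obtain ⟨V, hxV, hV, φ, ψ, h₁, h₂⟩ := exists_sec_of_stalk hA hB e hx₀
  exact ⟨V, hxV, hV, ⟨isoOfSec φ ψ h₁ h₂⟩⟩

end Groth.L21.Mod
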